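/-
Checks of the relators at a range of points.
-/
import Cfsg.Agent.Lib.Spor.Suz.Act2.Data
import Cfsg.Agent.Lib.Spor.Suz.Rels

namespace CfsgLib.Spor.Suz.Act2

open CfsgLib.Spor.TC

set_option maxRecDepth 100000 in
theorem range0 : act.RangeOK relsB 0 280 :=
  Act.RangeOK.of_check _ (by decide +kernel)

end CfsgLib.Spor.Suz.Act2
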