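/-
The action with its checks.
-/
import Cfsg.Agent.Lib.Spor.Suz.Act2.Orbits
import Cfsg.Agent.Lib.Spor.Suz.C2.All
import Cfsg.Agent.Lib.Spor.Suz.Act2.Range0

namespace CfsgLib.Spor.Suz.Act2

open CfsgLib.Spor.TC

theorem valid : act.Valid relsB :=
  ⟨range0, by decide +kernel, by decide +kernel⟩

/-- The action on the cosets. -/
noncomputable def cosetData : act.CosetData relsB [0, 1, 2, 3] :=
  ⟨valid, by decide, CfsgLib.Spor.Suz.C2.cosetCert, top, top_ok, rfl, rfl, parts, parts_ok⟩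

end CfsgLib.Spor.Suz.Act2
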